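import Mathlib

/-!
# Elements of a coproduct of modules are finite sums of elements of the summands
-/

set_option autoImplicit false
universe v u w
open CategoryTheory Limits

namespace Groth.Agent.Lib.Helper21.CoprodSec

theorem exists_finset_sum_of_isColimit_cofan {A : Type u} [Ring A] {ι : Type w}
    (N : ι → ModuleCat.{v} A) (c : Cofan N) (hc : IsColimit c) (m : c.pt) :
    ∃ (S : Finset ι) (t : ∀ i, N i), m = ∑ i ∈ S, (c.inj i).hom (t i) := by
  classical
  let N' : Submodule A c.pt := ⨆ i, LinearMap.range (c.inj i).hom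
  have h : N' = ⊤ := by
    let q : c.pt ⟶ ModuleCat.of A (c.pt ⧸ N') := ModuleCat.ofHom N'.mkQ
    have hq : q = 0 := by
      apply Cofan.IsColimit.hom_ext hc
      intro i
      rw [comp_zero]
      ext x
      change N'.mkQ ((c.inj i).hom x) = 0
      rw [Submodule.mkQ_apply, Submodule.Quotient.mk_eq_zero]
      exact Submodule.mem_iSup_of_mem i ⟨x, rfl⟩
    rw [eq_top_iff]
    intro x _
    have h1 : N'.mkQ x = 0 := by
      change q.hom x = 0
      rw [hq]
      rfl
    rwa [Submodule.mkQ_apply, Submodule.Quotient.mk_eq_zero] at h1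
  have hm : m ∈ N' := h ▸ Submodule.mem_top
  refine Submodule.iSup_induction _
    (motive := fun m => ∃ (S : Finset ι) (t : ∀ i, N i), m = ∑ i ∈ S, (c.inj i).hom (t i))
    hm ?_ ?_ ?_
  · rintro i x ⟨y, rfl⟩
    refine ⟨{i}, Pi.single i y, ?_⟩
    rw [Finset.sum_singleton, Pi.single_eq_same]
  · exact ⟨∅, fun _ => 0, by simp⟩
  · rintro x y ⟨S, t, rfl⟩ ⟨S', t', rfl⟩
    refine ⟨S ∪ S', fun i => (if i ∈ S then t i else 0) + (if i ∈ S' then t' i else 0), ?_⟩
    simp only [map_add, Finset.sum_add_distrib]
    congr 1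
    · rw [← Finset.sum_subset (Finset.subset_union_left (s₁ := S) (s₂ := S'))]
      · exact Finset.sum_congr rfl (fun i hi => by rw [if_pos hi])
      · intro i _ hi
        rw [if_neg hi, map_zero]
    · rw [← Finset.sum_subset (Finset.subset_union_right (s₁ := S) (s₂ := S'))]
      · exact Finset.sum_congr rfl (fun i hi => by rw [if_pos hi])
      · intro i _ hi
        rw [if_neg hi, map_zero]

end Groth.Agent.Lib.Helper21.CoprodSec
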