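import Mathlib
import Groth.Prelude.Def_ModSite
import Groth.Agent.Lib.Helper13.ModSiteTensor
import Groth.Agent.Lib.Helper13.ModSiteFreeOn
import Groth.Agent.Lib.Helper21.CoprodSec.Span

/-!
# Sections of a coproduct of sheaves of modules are locally finite sums
-/

set_option autoImplicit false
universe u
open CategoryTheory CategoryTheory.Limits Opposite
open Groth.Agent.Lib.Helper13 Groth.Agent.Lib.Helper13.TensorLocal
open Groth.Agent.Lib.Helper13.ModSiteTensor

namespace Groth.Agent.Lib.Helper21.CoprodSec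

variable {C : Type u} [SmallCategory C] {J : GrothendieckTopology C} {O : Sheaf J CommRingCat.{u}}

section

variable {ι : Type u} (F : ι → ModSite.Mod O) (c : Cofan F) (hc : IsColimit c)

/-- The coproduct of the underlying presheaves of modules. -/
noncomputable abbrev preCoprod : PMod O := ∐ (fun i => (fgt O).obj (F i))

/-- The comparison from the presheaf coproduct. -/
noncomputable def θ : preCoprod F ⟶ (fgt O).obj c.pt :=
  Sigma.desc (fun i => (fgt O).map (c.inj i))

lemma ι_θ (i : ι) : Sigma.ι (fun i => (fgt O).obj (F i)) i ≫ θ F c = (fgt O).map (c.inj i) := by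
  simp [θ]

/-- The adjoint transpose of `θ`. -/
noncomputable def θ' : (shf O).obj (preCoprod F) ⟶ c.pt :=
  ((shfAdj O).homEquiv _ _).symm (θ F c)

instance isIso_counit_app (M : ModSite.Mod O) : IsIso ((shfAdj O).counit.app M) := by
  haveI : IsIso (shfAdj O).counit :=
    inferInstanceAs (IsIso (PresheafOfModules.sheafificationAdjunction.{u}
      (𝟙 (ModSite.ringSh O).obj)).counit)
  infer_instance

/-- A section of `θ'`. -/
noncomputable def ψ : c.pt ⟶ (shf O).obj (preCoprod F) :=
  Cofan.IsColimit.desc hc (fun i => inv ((shfAdj O).counit.app (F i)) ≫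
    (shf O).map (Sigma.ι (fun i => (fgt O).obj (F i)) i))

lemma ψ_θ' : ψ F c hc ≫ θ' F c = 𝟙 _ := by
  apply Cofan.IsColimit.hom_ext hc
  intro i
  rw [ψ, Cofan.IsColimit.fac_assoc, θ', Adjunction.homEquiv_counit, Category.assoc,
    ← Functor.map_comp_assoc, ι_θ, Category.comp_id]
  have h : (shf O).map ((fgt O).map (c.inj i)) ≫ (shfAdj O).counit.app c.pt =
      (shfAdj O).counit.app (F i) ≫ c.inj i := (shfAdj O).counit.naturality (c.inj i)
  rw [h, IsIso.inv_hom_id_assoc]

lemma θ_eq : θ F c = (shfAdj O).unit.app (preCoprod F) ≫ (fgt O).map (θ' F c) := by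
  have h := (shfAdj O).homEquiv_unit (f := θ' F c)
  rw [← h, θ', Equiv.apply_symm_apply]

include hc in
theorem locSurj_θ : LocSurj J (θ F c) := by
  intro W x
  let y : ((shf O).obj (preCoprod F)).val.obj (op W) := (ψ F c hc).val.app (op W) x
  obtain ⟨R, hR, h⟩ := locSurj_unit (𝟙 (ModSite.ringSh O).obj) (preCoprod F) W y
  refine ⟨R, hR, fun V g hg => ?_⟩
  obtain ⟨p, hp⟩ := h g hg
  refine ⟨p, ?_⟩
  have h1 : (θ F c).app (op V) p =
      (θ' F c).val.app (op V) (((shfAdj O).unit.app (preCoprod F)).app (op V) p) := by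
    rw [θ_eq F c]
    rfl
  rw [h1]
  have h2 : ((shfAdj O).unit.app (preCoprod F)).app (op V) p =
      ((shf O).obj (preCoprod F)).val.map g.op y := hp
  rw [h2, PresheafOfModules.naturality_apply]
  have h3 : (θ' F c).val.app (op W) y = x := by
    change ((ψ F c hc ≫ θ' F c).val.app (op W)) x = x
    rw [ψ_θ']
    rfl
  rw [h3]
  rfl

include hc in
theorem exists_local_finset_sum (W : C) (x : c.pt.val.obj (op W)) :
    ∃ R ∈ J W, ∀ ⦃V : C⦄ (g : V ⟶ W), R g →
      ∃ (S : Finset ι) (t : ∀ i, (F i).val.obj (op V)),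
        c.pt.val.map g.op x = ∑ i ∈ S, (c.inj i).val.app (op V) (t i) := by
  obtain ⟨R, hR, h⟩ := locSurj_θ F c hc W x
  refine ⟨R, hR, fun V g hg => ?_⟩
  obtain ⟨p, hp⟩ := h g hg
  have hcol := isColimitOfHasCoproductOfPreservesColimit
    (PresheafOfModules.evaluation _ (op V)) (fun i => (fgt O).obj (F i))
  obtain ⟨S, t, ht⟩ := exists_finset_sum_of_isColimit_cofan _ _ hcol p
  refine ⟨S, t, ?_⟩
  have h1 : c.pt.val.map g.op x = (θ F c).app (op V) p := hp.symm
  have ht' : p = ∑ i ∈ S, (Sigma.ι (fun i => (fgt O).obj (F i)) i).app (op V) (t i) := ht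
  rw [h1, ht', map_sum]
  refine Finset.sum_congr rfl (fun i _ => ?_)
  change ((Sigma.ι (fun i => (fgt O).obj (F i)) i ≫ θ F c).app (op V)) (t i) = _
  rw [ι_θ]
  rfl

end

end Groth.Agent.Lib.Helper21.CoprodSec
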