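import Mathlib
import Groth.Prelude.Def_ModSite
import Groth.Agent.Lib.Helper21.CoprodSec.Local

/-!
# Sections of a coproduct of sheaves of modules over a quasi-compact object
-/

set_option autoImplicit false
universe u
open CategoryTheory CategoryTheory.Limits Opposite
open Groth.Agent.Lib.Helper13 Groth.Agent.Lib.Helper13.ModSiteFreeOn

namespace Groth.Agent.Lib.Helper21.CoprodSec

variable {C : Type u} [SmallCategory C] {J : GrothendieckTopology C} {O : Sheaf J CommRingCat.{u}}

/-- Every covering sieve of `W` contains a finite family of arrows generating a covering sieve. -/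
def FinCov (J : GrothendieckTopology C) (W : C) : Prop :=
  ∀ R ∈ J W, ∃ (T : Type u) (_ : Fintype T) (V : T → C) (g : ∀ k, V k ⟶ W),
    (∀ k, R (g k)) ∧ Sieve.ofArrows V g ∈ J W

section

variable {ι : Type u} (F : ι → ModSite.Mod O) (c : Cofan F) (hc : IsColimit c)

open Classical in
/-- The projections of a coproduct. -/
noncomputable def π (i : ι) : c.pt ⟶ F i :=
  Cofan.IsColimit.desc hc (fun j => if h : j = i then eqToHom (by rw [h]) else 0)

lemma inj_π_self (i : ι) : c.inj i ≫ π F c hc i = 𝟙 _ := by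
  rw [π, Cofan.IsColimit.fac, dif_pos rfl]
  rfl

lemma inj_π_ne (i j : ι) (h : j ≠ i) : c.inj j ≫ π F c hc i = 0 := by
  rw [π, Cofan.IsColimit.fac, dif_neg h]

lemma π_inj_apply_self (i : ι) (V : C) (t : (F i).val.obj (op V)) :
    (π F c hc i).val.app (op V) ((c.inj i).val.app (op V) t) = t := by
  change ((c.inj i ≫ π F c hc i).val.app (op V)) t = t
  rw [inj_π_self]
  rfl

lemma π_inj_apply_ne (i j : ι) (h : j ≠ i) (V : C) (t : (F j).val.obj (op V)) :
    (π F c hc i).val.app (op V) ((c.inj j).val.app (op V) t) = 0 := by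
  change ((c.inj j ≫ π F c hc i).val.app (op V)) t = 0
  rw [inj_π_ne F c hc i j h]
  rfl

/-- Elementwise truncation to a finite set of summands. -/
noncomputable def e (S : Finset ι) (V : C) (y : c.pt.val.obj (op V)) : c.pt.val.obj (op V) :=
  ∑ i ∈ S, (c.inj i).val.app (op V) ((π F c hc i).val.app (op V) y)

lemma e_map (S : Finset ι) {V V' : C} (g : V' ⟶ V) (y : c.pt.val.obj (op V)) :
    e F c hc S V' (c.pt.val.map g.op y) = c.pt.val.map g.op (e F c hc S V y) := by
  simp only [e, map_sum]
  refine Finset.sum_congr rfl (fun i _ => ?_)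
  rw [PresheafOfModules.naturality_apply, PresheafOfModules.naturality_apply]

lemma e_sum (S S' : Finset ι) (hS : S' ⊆ S) (V : C) (t : ∀ i, (F i).val.obj (op V)) :
    e F c hc S V (∑ j ∈ S', (c.inj j).val.app (op V) (t j)) =
      ∑ j ∈ S', (c.inj j).val.app (op V) (t j) := by
  classical
  simp only [e, map_sum]
  rw [Finset.sum_comm]
  refine Finset.sum_congr rfl (fun j hj => ?_)
  rw [Finset.sum_eq_single j]
  · rw [π_inj_apply_self]
  · intro i _ hij
    rw [π_inj_apply_ne F c hc i j (Ne.symm hij), map_zero]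
  · intro h
    exact absurd (hS hj) h

theorem exists_finset_sum {W : C} (hW : FinCov J W) (x : c.pt.val.obj (op W)) :
    ∃ S : Finset ι,
      x = ∑ i ∈ S, (c.inj i).val.app (op W) ((π F c hc i).val.app (op W) x) := by
  classical
  obtain ⟨R, hR, h⟩ := exists_local_finset_sum F c hc W x
  obtain ⟨T, hT, V, g, hg, hcov⟩ := hW R hR
  haveI := hT
  choose S t ht using fun k => h (g k) (hg k)
  refine ⟨Finset.univ.biUnion S, ?_⟩
  symm
  apply eq_of_cover c.pt _ hcov
  intro V' f hf
  obtain ⟨Y, a, g', hg', rfl⟩ := hf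
  obtain ⟨k⟩ := hg'
  change c.pt.val.map (a ≫ g k).op (e F c hc _ W x) = _
  rw [op_comp, PresheafOfModules.map_comp_apply, PresheafOfModules.map_comp_apply,
    ← e_map, ht k, e_sum]
  intro i hi
  exact Finset.mem_biUnion.2 ⟨k, Finset.mem_univ k, hi⟩

end

end Groth.Agent.Lib.Helper21.CoprodSec
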