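import Mathlib
import Groth.Prelude.Def_CohCx
import Groth.Agent.Lib.Helper21.CoprodSec.Core

/-!
# Quasi-compact representable sheaves: finite subcovers
-/

set_option autoImplicit false
universe u
open CategoryTheory CategoryTheory.Limits Opposite

namespace Groth.Agent.Lib.Helper21.CoprodSec

variable {C : Type u} [SmallCategory C] {J : GrothendieckTopology C}

/-- The sheaf associated to a representable presheaf. -/
noncomputable abbrev hsh (J : GrothendieckTopology C) (W : C) : Sheaf J (Type u) :=
  (presheafToSheaf J (Type u)).obj (yoneda.obj W)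

/-- The canonical map `h_W → h_W^#`. -/
noncomputable abbrev η (J : GrothendieckTopology C) (W : C) : yoneda.obj W ⟶ (hsh J W).obj :=
  toSheafify J (yoneda.obj W)

lemma η_natural {V W : C} (g : V ⟶ W) (U : C) (a : U ⟶ V) :
    ((presheafToSheaf J (Type u)).map (yoneda.map g)).hom.app (op U) ((η J V).app (op U) a) =
      (η J W).app (op U) (a ≫ g) := by
  have h := toSheafify_naturality J (yoneda.map g)
  have h2 := congr_fun (congr_arg (fun φ => (φ.app (op U) : _ → _)) h) a
  exact h2.symm

lemma η_map {W : C} {U U' : C} (b : U' ⟶ U) (a : U ⟶ W) :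
    (hsh J W).obj.map b.op ((η J W).app (op U) a) = (η J W).app (op U') (b ≫ a) := by
  exact (NatTrans.naturality_apply (η J W) b.op a).symm

theorem finCov_of_isQcObject (W : C) (hW : CohCx.IsQcObject (hsh J W)) : FinCov J W := by
  intro R hR
  classical
  let I : Type u := Σ V : C, {g : V ⟶ W // R g}
  let L : I → Sheaf J (Type u) := fun i => hsh J i.1
  let f : ∀ i : I, L i ⟶ hsh J W :=
    fun i => (presheafToSheaf J (Type u)).map (yoneda.map i.2.1)
  have hf : CohCx.JointlySurjective f := by
    intro U s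
    have h1 : Presheaf.imageSieve (η J W) s ∈ J U :=
      Presheaf.imageSieve_mem J (η J W) (U := op U) s
    refine ⟨Sieve.bind (Presheaf.imageSieve (η J W) s).arrows
      (fun V h hh => Sieve.pullback hh.choose R),
      J.bind_covering h1 (fun V h hh => J.pullback_stable _ hR), ?_⟩
    rintro V' g ⟨V, b, h, hh, hb, rfl⟩
    refine ⟨⟨V', b ≫ hh.choose, hb⟩, (η J V').app (op V') (𝟙 V'), ?_⟩
    have e1 := hh.choose_spec
    change ((presheafToSheaf J (Type u)).map (yoneda.map (b ≫ hh.choose))).hom.app (op V') _ = _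
    rw [η_natural, Category.id_comp, ← η_map, e1, op_comp, Functor.map_comp]
    rfl
  obtain ⟨t, ht⟩ := hW I L f hf
  refine ⟨↥t, inferInstance, fun k => k.1.1, fun k => k.1.2.1, fun k => k.1.2.2, ?_⟩
  obtain ⟨S, hS, h⟩ := ht W ((η J W).app (op W) (𝟙 W))
  refine J.transitive hS _ (fun V g hg => ?_)
  obtain ⟨i, x, hx⟩ := h V g hg
  have h2 : Presheaf.imageSieve (η J i.1.1) x ∈ J V :=
    Presheaf.imageSieve_mem J (η J i.1.1) (U := op V) x
  refine J.superset_covering ?_ (J.bind_covering h2 (fun V' b hb =>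
    Presheaf.equalizerSieve_mem J (η J W) (X := op V')
      (show V' ⟶ W from hb.choose ≫ i.1.2.1) (show V' ⟶ W from b ≫ g) ?_))
  · rintro V'' _ ⟨V', c, b, hb, hc, rfl⟩
    change Sieve.ofArrows _ _ ((c ≫ b) ≫ g)
    have hc' : c ≫ hb.choose ≫ i.1.2.1 = c ≫ b ≫ g := hc
    rw [Category.assoc, ← hc', ← Category.assoc]
    exact Sieve.downward_closed _ (Sieve.ofArrows_mk _ _ i) _
  · have e1 := hb.choose_spec
    rw [← η_natural, e1]
    have e2 := NatTrans.naturality_apply (f i.1).hom b.op x
    rw [e2, hx, η_map, η_map, Category.comp_id]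

end Groth.Agent.Lib.Helper21.CoprodSec
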