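import Mathlib
import Groth.Prelude.Def_CohDer
import Groth.Agent.Lib.Helper2.DCoprod
import Groth.Agent.Lib.Helper2.CompactEnv
import Groth.Agent.Lib.Helper2.KInj.SingleProj

/-!
# A projective object with finite-support maps into coproducts is compact in the derived category

Generalisation of helper2's `ModCompact.isFin_gen` from `R` in `ModuleCat R` to any projective
object `P` of an abelian category with exact coproducts such that every `P ⟶ ∐ M` has finite
support.
-/

set_option autoImplicit false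
universe v u
open CategoryTheory Limits HomologicalComplex ZeroObject

namespace Groth.Agent.Lib.Helper21.CoprodSec

open Groth.Agent.Lib.Helper2 Groth.Agent.Lib.Helper2.CompactEnv

section Cmp

variable {A : Type u} [Category.{v} A] [Abelian A] {κ : Type v}
  [HasColimitsOfShape (Discrete κ) A] [HasExactColimitsOfShape (Discrete κ) A]
  (L : κ → CochainComplex A ℤ)

lemma sum_f {K K' : CochainComplex A ℤ} {α : Type*} (F : Finset α)
    (φ : α → (K ⟶ K')) (m : ℤ) : (∑ k ∈ F, φ k).f m = ∑ k ∈ F, (φ k).f m :=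
  map_sum (Hom.fAddMonoidHom m) _ _

lemma cmp_sigmaπ (k : κ) (m : ℤ) :
    DCoprod.cmp L m ≫ (sigmaπ L k).f m = sigmaπ (fun j => (L j).X m) k := by
  apply Sigma.hom_ext
  intro i
  rw [DCoprod.ι_cmp_assoc, ← comp_f]
  by_cases h : i = k
  · subst h
    rw [ι_sigmaπ_self, ι_sigmaπ_self, id_f]
  · rw [ι_sigmaπ_of_ne _ h, ι_sigmaπ_of_ne _ h, zero_f]

lemma cmp_compl (F : Finset κ) (m : ℤ) :
    DCoprod.cmp L m ≫ (CompactEnv.compl L F).f m =
      CompactEnv.compl (fun j => (L j).X m) F ≫ DCoprod.cmp L m := by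
  unfold CompactEnv.compl
  rw [sub_f_apply, id_f, sum_f, Preadditive.comp_sub, Preadditive.sub_comp, Category.comp_id,
    Category.id_comp, Preadditive.comp_sum, Preadditive.sum_comp]
  congr 1
  refine Finset.sum_congr rfl (fun k _ => ?_)
  rw [comp_f, ← Category.assoc, cmp_sigmaπ, Category.assoc, DCoprod.ι_cmp]

end Cmp

section Derived

variable {A : Type u} [Category.{v} A] [Abelian A] [HasDerivedCategory.{v} A]
  [HasCoproducts.{v} A] [∀ κ : Type v, HasExactColimitsOfShape (Discrete κ) A]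
  [HasCoproducts.{v} (DerivedCategory A)]

open DerivedCategory

theorem isFin_single (P : A) [Projective P]
    (hP : ∀ (κ : Type v) (M : κ → A) (f : P ⟶ ∐ M), IsFin M f)
    {κ : Type v} (X : κ → DerivedCategory A)
    (φ : Q.obj ((single A (ComplexShape.up ℤ) 0).obj P) ⟶ ∐ X) : IsFin X φ := by
  classical
  let L : κ → CochainComplex A ℤ := fun k => Q.objPreimage (X k)
  let e : ∀ k, Q.obj (L k) ≅ X k := fun k => Q.objObjPreimageIso (X k)
  have hc := DCoprod.isColimitCofanQ L
  let θ : ∐ X ⟶ Q.obj (∐ L) := Sigma.desc (fun k => (e k).inv ≫ Q.map (Sigma.ι L k))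
  let θ' : Q.obj (∐ L) ⟶ ∐ X := Cofan.IsColimit.desc hc (fun k => (e k).hom ≫ Sigma.ι X k)
  have hθ' : ∀ k, Q.map (Sigma.ι L k) ≫ θ' = (e k).hom ≫ Sigma.ι X k :=
    fun k => Cofan.IsColimit.fac hc _ k
  have hθ : θ ≫ θ' = 𝟙 _ := by
    apply Sigma.hom_ext
    intro k
    rw [Sigma.ι_desc_assoc, Category.assoc, hθ', Iso.inv_hom_id_assoc, Category.comp_id]
  obtain ⟨z, hz, hφ⟩ := KInj.exists_cocycle_of_single (∐ L) (φ ≫ θ)
  obtain ⟨F, hF⟩ := (hP κ (fun k => (L k).X 0) (z ≫ inv (DCoprod.cmp L 0))).exists_finset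
  have hzF : z ≫ (CompactEnv.compl L F).f 0 = 0 := by
    have h1 := cmp_compl L F 0
    calc z ≫ (CompactEnv.compl L F).f 0
        = (z ≫ inv (DCoprod.cmp L 0)) ≫ DCoprod.cmp L 0 ≫ (CompactEnv.compl L F).f 0 := by simp
      _ = ((z ≫ inv (DCoprod.cmp L 0)) ≫ CompactEnv.compl (fun j => (L j).X 0) F) ≫
            DCoprod.cmp L 0 := by
        rw [h1]
        simp only [Category.assoc]
      _ = 0 := by rw [hF, zero_comp]
  have hψ : mkHomFromSingle z hz ≫ CompactEnv.compl L F = 0 := by
    apply from_single_hom_ext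
    rw [comp_f, mkHomFromSingle_f, Category.assoc, hzF, comp_zero, zero_f]
  have hsum := eq_sum_of_comp_compl_eq_zero L hψ
  have h2 : φ = (φ ≫ θ) ≫ θ' := by rw [Category.assoc, hθ, Category.comp_id]
  rw [h2, hφ, hsum, Functor.map_sum, Preadditive.sum_comp]
  apply isFin_sum
  intro k _
  rw [Functor.map_comp, Category.assoc, hθ', ← Category.assoc]
  exact isFin_comp_ι k _

theorem isCompactObject_single (P : A) [Projective P]
    (hP : ∀ (κ : Type v) (M : κ → A) (f : P ⟶ ∐ M), IsFin M f) :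
    CohDer.IsCompactObject ((DerivedCategory.singleFunctor A 0).obj P) :=
  isCompactObject_of_iso ((DerivedCategory.singleFunctorIsoCompQ A 0).app P)
    (isCompactObject_of_isFin (fun _ X φ => isFin_single P hP X φ))

end Derived

end Groth.Agent.Lib.Helper21.CoprodSec
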