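import Mathlib
import Groth.Prelude.Def_ModSite
import Groth.Agent.Lib.Helper21.CoprodSec.Core

/-!
# The sections functor over a quasi-compact object preserves coproducts
-/

set_option autoImplicit false
universe u w
open CategoryTheory CategoryTheory.Limits Opposite

namespace Groth.Agent.Lib.Helper21.CoprodSec

section Algebra

variable {ι : Type w} (A : ι → AddCommGrpCat.{u}) (B : AddCommGrpCat.{u})
  (inj : ∀ i, A i ⟶ B) (pr : ∀ i, B ⟶ A i)

lemma pr_eq_zero_of_notMem (h2 : ∀ i j, j ≠ i → ∀ t, (pr i).hom ((inj j).hom t) = 0)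
    (x : B) (S : Finset ι) (hx : x = ∑ i ∈ S, (inj i).hom ((pr i).hom x)) (i : ι) (hi : i ∉ S) :
    (pr i).hom x = 0 := by
  rw [hx, map_sum]
  refine Finset.sum_eq_zero (fun j hj => ?_)
  exact h2 i j (fun h => hi (h ▸ hj)) _

/-- A cofan of abelian groups with compatible projections, every element of whose point is a
finite sum of its components, is a coproduct. -/
noncomputable def isColimitCofanOfSplit
    (h1 : ∀ i t, (pr i).hom ((inj i).hom t) = t)
    (h2 : ∀ i j, j ≠ i → ∀ t, (pr i).hom ((inj j).hom t) = 0)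
    (h3 : ∀ x : B, ∃ S : Finset ι, x = ∑ i ∈ S, (inj i).hom ((pr i).hom x)) :
    IsColimit (Cofan.mk B inj) := by
  have hfin : ∀ (s : Cofan A) (x : B),
      (Function.support fun i => (s.inj i).hom ((pr i).hom x)).Finite := by
    intro s x
    obtain ⟨S, hS⟩ := h3 x
    refine S.finite_toSet.subset (fun i hi => ?_)
    by_contra hi'
    apply hi
    change (s.inj i).hom ((pr i).hom x) = 0
    rw [pr_eq_zero_of_notMem A B inj pr h2 x S hS i hi', map_zero]
  refine Cofan.IsColimit.mk _
    (fun s => AddCommGrpCat.ofHom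
      { toFun := fun x => ∑ᶠ i, (s.inj i).hom ((pr i).hom x)
        map_zero' := by simp
        map_add' := fun x y => by
          simp only [map_add]
          exact finsum_add_distrib (hfin s x) (hfin s y) }) ?_ ?_
  · intro s j
    ext t
    change ∑ᶠ i, (s.inj i).hom ((pr i).hom ((inj j).hom t)) = (s.inj j).hom t
    rw [finsum_eq_single _ j]
    · rw [h1]
    · intro i hi
      rw [h2 i j (Ne.symm hi), map_zero]
  · intro s m hm
    ext x
    change m.hom x = ∑ᶠ i, (s.inj i).hom ((pr i).hom x)
    obtain ⟨S, hS⟩ := h3 x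
    rw [finsum_eq_sum_of_support_subset (s := S)]
    · conv_lhs => rw [hS]
      rw [map_sum]
      refine Finset.sum_congr rfl (fun i _ => ?_)
      rw [← hm i]
      rfl
    · intro i hi
      by_contra hi'
      apply hi
      change (s.inj i).hom ((pr i).hom x) = 0
      rw [pr_eq_zero_of_notMem A B inj pr h2 x S hS i hi', map_zero]

end Algebra

variable {C : Type u} [SmallCategory C] {J : GrothendieckTopology C} (O : Sheaf J CommRingCat.{u})

/-- The sections functor over `W` to abelian groups. -/
noncomputable abbrev Γ (W : C) : ModSite.Mod O ⥤ AddCommGrpCat.{u} :=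
  SheafOfModules.toSheaf (ModSite.ringSh O) ⋙ (sheafSections J AddCommGrpCat.{u}).obj (op W)

variable {O}

lemma Γ_map_apply (W : C) {M N : ModSite.Mod O} (f : M ⟶ N) (x : M.val.obj (op W)) :
    ((Γ O W).map f).hom x = f.val.app (op W) x := rfl

/-- The sections functor over a quasi-compact object sends coproduct cofans to coproduct cofans. -/
noncomputable def isColimitΓCofan {W : C} (hW : FinCov J W) {ι : Type u} (F : ι → ModSite.Mod O)
    (c : Cofan F) (hc : IsColimit c) :
    IsColimit (Cofan.mk ((Γ O W).obj c.pt) (fun i => (Γ O W).map (c.inj i))) :=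
  isColimitCofanOfSplit (fun i => (Γ O W).obj (F i)) ((Γ O W).obj c.pt)
    (fun i => (Γ O W).map (c.inj i)) (fun i => (Γ O W).map (π F c hc i))
    (fun i t => π_inj_apply_self F c hc i W t)
    (fun i j h t => π_inj_apply_ne F c hc i j h W t)
    (fun x => exists_finset_sum F c hc hW x)

theorem preservesColimitsOfShape_Γ {W : C} (hW : FinCov J W) (ι : Type u) :
    PreservesColimitsOfShape (Discrete ι) (Γ O W) := by
  constructor
  intro K
  suffices h : PreservesColimit (Discrete.functor (K.obj ∘ Discrete.mk)) (Γ O W) from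
    preservesColimit_of_iso_diagram (Γ O W) (Discrete.natIsoFunctor (F := K)).symm
  constructor
  intro c hc
  let F : ι → ModSite.Mod O := K.obj ∘ Discrete.mk
  have hc' : IsColimit (Cofan.mk c.pt (Cofan.inj c)) :=
    IsColimit.ofIsoColimit hc (Cocone.ext (Iso.refl _) (by rintro ⟨j⟩; simp [Cofan.inj]))
  have h1 := isColimitΓCofan hW F (Cofan.mk c.pt (Cofan.inj c)) hc'
  have h2 := (isColimitMapCoconeCofanMkEquiv (Γ O W) F (Cofan.inj c)).symm h1
  exact ⟨IsColimit.ofIsoColimit h2
    ((Cocone.functoriality _ (Γ O W)).mapIso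
      (Cocone.ext (Iso.refl _) (by rintro ⟨j⟩; simp [Cofan.inj])))⟩

end Groth.Agent.Lib.Helper21.CoprodSec
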