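import Mathlib
import Groth.Prelude.Def_ModSite
import Groth.Agent.Lib.Helper13.ModSiteFreeOn
import Groth.Agent.Lib.Helper21.CoprodSec.Pres

/-!
# `Hom(j_{U!} O_U, -)` is the sections functor over `U`, additively
-/

set_option autoImplicit false
universe u
open CategoryTheory CategoryTheory.Limits Opposite
open Groth.Agent.Lib.Helper13.ModSiteFreeOn

namespace Groth.Agent.Lib.Helper21.CoprodSec

variable {C : Type u} [SmallCategory C] {J : GrothendieckTopology C} (O : Sheaf J CommRingCat.{u})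

lemma freeOnHomEquiv_add (U : C) (M : ModSite.Mod O) (h₁ h₂ : ModSite.freeOn O U ⟶ M) :
    freeOnHomEquiv O U M (h₁ + h₂) = freeOnHomEquiv O U M h₁ + freeOnHomEquiv O U M h₂ := by
  have e : h₁ + h₂ = biprod.lift h₁ h₂ ≫ (biprod.fst + biprod.snd) := by
    rw [Preadditive.comp_add, biprod.lift_fst, biprod.lift_snd]
  rw [e, freeOnHomEquiv_naturality]
  have h : ∀ z : (M ⊞ M).val.obj (op U),
      (biprod.fst + biprod.snd : M ⊞ M ⟶ M).val.app (op U) z =
        (biprod.fst : M ⊞ M ⟶ M).val.app (op U) z + (biprod.snd : M ⊞ M ⟶ M).val.app (op U) z :=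
    fun _ => rfl
  rw [h, ← freeOnHomEquiv_naturality, ← freeOnHomEquiv_naturality, biprod.lift_fst,
    biprod.lift_snd]

/-- `Hom(j_{U!} O_U, M) ≃+ M(U)`. -/
noncomputable def homAddEquiv (U : C) (M : ModSite.Mod O) :
    ((preadditiveCoyoneda.obj (op (ModSite.freeOn O U))).obj M) ≃+ ((Γ O U).obj M) where
  toFun h := freeOnHomEquiv O U M h
  invFun x := (freeOnHomEquiv O U M).symm x
  left_inv h := (freeOnHomEquiv O U M).symm_apply_apply h
  right_inv x := (freeOnHomEquiv O U M).apply_symm_apply x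
  map_add' h₁ h₂ := freeOnHomEquiv_add O U M h₁ h₂

/-- `Hom(j_{U!} O_U, -) ≅ Γ(U, -)` as functors to abelian groups. -/
noncomputable def coyonedaIso (U : C) :
    preadditiveCoyoneda.obj (op (ModSite.freeOn O U)) ≅ Γ O U :=
  NatIso.ofComponents (fun M => AddEquiv.toAddCommGrpIso (homAddEquiv O U M))
    (by
      intro M N f
      ext h
      exact freeOnHomEquiv_naturality O U h f)

end Groth.Agent.Lib.Helper21.CoprodSec
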