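import Mathlib
import Groth.Prelude.Def_ModSite
import Groth.Prelude.Def_CohSite
import Groth.Prelude.Def_CohCx
import Groth.Agent.Lib.Helper13.WeaklyContractible
import Groth.Agent.Lib.Helper13.ModSiteFlat
import Groth.Agent.Lib.Helper21.CoprodSec.FreeOnHom
import Groth.Agent.Lib.Helper21.CoprodSec.QcRep
import Groth.Agent.Lib.Helper21.CoprodSec.DCompact

/-!
# `j_{U!} O_U` is projective for weakly contractible `U`, and has finite-support maps into
coproducts for quasi-compact `U`
-/

set_option autoImplicit false
universe u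
open CategoryTheory CategoryTheory.Limits Opposite
open Groth.Agent.Lib.Helper13 Groth.Agent.Lib.Helper13.ModSiteFreeOn
open Groth.Agent.Lib.Helper2.CompactEnv

namespace Groth.Agent.Lib.Helper21.CoprodSec

variable {C : Type u} [SmallCategory C] {J : GrothendieckTopology C} (O : Sheaf J CommRingCat.{u})

theorem projective_freeOn (U : C) (hwc : CohSite.IsWeaklyContractible J U) :
    Projective (ModSite.freeOn O U) := by
  constructor
  intro E X f e he
  haveI : PreservesFiniteColimits (WeaklyContractible.sect J U) :=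
    WeaklyContractible.sect_preservesFiniteColimits J U hwc
  haveI : PreservesColimitsOfShape WalkingSpan (SheafOfModules.toSheaf (ModSite.ringSh O)) :=
    inferInstance
  haveI : Epi ((SheafOfModules.toSheaf (ModSite.ringSh O)).map e) :=
    preserves_epi_of_preservesColimit _ e
  haveI : PreservesColimitsOfShape WalkingSpan (WeaklyContractible.sect J U) :=
    PreservesFiniteColimits.preservesFiniteColimits _
  have h1 : Epi ((WeaklyContractible.sect J U).map
      ((SheafOfModules.toSheaf (ModSite.ringSh O)).map e)) :=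
    preserves_epi_of_preservesColimit _ _
  rw [AddCommGrpCat.epi_iff_surjective] at h1
  obtain ⟨y, hy⟩ := h1 (freeOnHomEquiv O U X f)
  refine ⟨(freeOnHomEquiv O U E).symm y, ?_⟩
  apply (freeOnHomEquiv O U X).injective
  rw [freeOnHomEquiv_naturality, Equiv.apply_symm_apply]
  exact hy

lemma freeOnHomEquiv_sum (U : C) (M : ModSite.Mod O) {α : Type*} (S : Finset α)
    (h : α → (ModSite.freeOn O U ⟶ M)) :
    freeOnHomEquiv O U M (∑ i ∈ S, h i) = ∑ i ∈ S, freeOnHomEquiv O U M (h i) :=
  map_sum (homAddEquiv O U M) h S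

theorem isFin_freeOn (U : C) (hW : FinCov J U) {κ : Type u} (M : κ → ModSite.Mod O)
    (f : ModSite.freeOn O U ⟶ ∐ M) : IsFin M f := by
  classical
  let c : Cofan M := Cofan.mk (∐ M) (Sigma.ι M)
  have hc : IsColimit c := coproductIsCoproduct M
  obtain ⟨S, hS⟩ := exists_finset_sum M c hc hW (freeOnHomEquiv O U _ f)
  have h : f = ∑ i ∈ S, (f ≫ π M c hc i) ≫ Sigma.ι M i := by
    apply (freeOnHomEquiv O U (∐ M)).injective
    rw [freeOnHomEquiv_sum]
    refine hS.trans (Finset.sum_congr rfl (fun i _ => ?_))
    rw [freeOnHomEquiv_naturality, freeOnHomEquiv_naturality]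
    rfl
  rw [h]
  exact isFin_sum _ _ (fun i _ => isFin_comp_ι i _)

theorem isCompactObject_freeOn
    [HasDerivedCategory.{u} (ModSite.Mod O)] [HasCoproducts.{u} (DerivedCategory (ModSite.Mod O))]
    (U : C) (hqc : CohCx.IsQcObject ((presheafToSheaf J (Type u)).obj (yoneda.obj U)))
    (hwc : CohSite.IsWeaklyContractible J U) :
    CohDer.IsCompactObject
      ((DerivedCategory.singleFunctor (ModSite.Mod O) 0).obj (ModSite.freeOn O U)) := by
  haveI := projective_freeOn O U hwc
  haveI : ∀ κ : Type u, HasExactColimitsOfShape (Discrete κ) (ModSite.Mod O) :=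
    fun κ => ModSiteFlat.hasExactColimitsOfShape_mod O (Discrete κ)
  exact isCompactObject_single (ModSite.freeOn O U)
    (fun κ M f => isFin_freeOn O U (finCov_of_isQcObject U hqc) M f)

end Groth.Agent.Lib.Helper21.CoprodSec
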